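import Mathlib

/-!
# Project OCT (S2369): centralizers of involutions of `²F₄(q)` lie in parabolic subgroups

Abstract setting: a group `G` with a "cell system" of type `D₁₆` (the Bruhat decomposition of a group with a
`BN`-pair of rank two with dihedral Weyl group of order 16, e.g. `²F₄(q)`), together with a normal subgroup `U` of
`B` ("unipotent radical") and two subgroups `Uj 0, Uj 1 ≤ U` ("unipotent radicals of the two minimal parabolic
subgroups").  The sixteen elements of `D₁₆ = ⟨a, b⟩` are numbered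
`0:e 1:a 2:b 3:ab 4:ba 5:aba 6:bab 7:abab 8:baba 9:ababa 10:babab 11:ababab 12:bababa 13:abababa 14:bababab 15:w₀`.
-/

set_option autoImplicit false

namespace Cfsg.Agent.Lib.helper8.OCT

/-- the length of the `k`-th element of `D₁₆` -/
def oLen (k : ℕ) : ℕ := ([0, 1, 1, 2, 2, 3, 3, 4, 4, 5, 5, 6, 6, 7, 7, 8] : List ℕ).getD k 0

/-- generator `j` (`0 = a`, `1 = b`) times the `k`-th element -/
def oMt (j k : ℕ) : ℕ :=
  (([[1, 0, 3, 2, 5, 4, 7, 6, 9, 8, 11, 10, 13, 12, 15, 14],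
    [2, 4, 0, 6, 1, 8, 3, 10, 5, 12, 7, 14, 9, 15, 11, 13]] : List (List ℕ)).getD j []).getD k 0

/-- the first letter of the (unique for `k < 15`) reduced word of the `k`-th element -/
def oFl (k : ℕ) : ℕ := ([0, 0, 1, 0, 1, 0, 1, 0, 1, 0, 1, 0, 1, 0, 1, 0] : List ℕ).getD k 0

/-- the `k`-th element without its first letter -/
def oPar (k : ℕ) : ℕ := ([0, 0, 0, 2, 1, 4, 3, 6, 5, 8, 7, 10, 9, 12, 11, 14] : List ℕ).getD k 0

/-- the inverse of the `k`-th element -/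
def oInv (k : ℕ) : ℕ := ([0, 1, 2, 4, 3, 5, 6, 8, 7, 9, 10, 12, 11, 13, 14, 15] : List ℕ).getD k 0

variable {G : Type*} [Group G]

/-- the double coset `B n_k B` -/
def cell (B : Subgroup G) (n : ℕ → G) (k : ℕ) : Set G :=
  {x | ∃ b ∈ B, ∃ b' ∈ B, x = b * n k * b'}

/-- a cell system of type `D₁₆` with unipotent data; the generators are `n 1` and `n 2` -/
structure OctSys (B U : Subgroup G) (Uj : ℕ → Subgroup G) (n : ℕ → G) : Prop where
  /-- the cells cover `G` -/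
  cov : ∀ g : G, ∃ k < 16, g ∈ cell B n k
  /-- the cells are disjoint -/
  dis : ∀ k < 16, ∀ k' < 16, ∀ g : G, g ∈ cell B n k → g ∈ cell B n k' → k = k'
  n0 : n 0 = 1
  /-- the representatives are the products along the reduced words -/
  step : ∀ k < 16, 1 ≤ k → n k = n (oFl k + 1) * n (oPar k)
  /-- `(B s B)(B w B) ⊆ B s w B ∪ B w B` -/
  mul : ∀ j < 2, ∀ k < 16, ∀ b ∈ B, n (j + 1) * b * n k ∈ cell B n (oMt j k) ∪ cell B n k
  /-- `(B s B)(B w B) = B s w B` if `s w` is longer than `w` -/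
  mulL : ∀ j < 2, ∀ k < 16, oLen (oMt j k) = oLen k + 1 → ∀ b ∈ B,
    n (j + 1) * b * n k ∈ cell B n (oMt j k)
  inv : ∀ k < 16, (n k)⁻¹ ∈ cell B n (oInv k)
  UB : U ≤ B
  Unorm : ∀ b ∈ B, ∀ u ∈ U, b * u * b⁻¹ ∈ U
  /-- `Uj j` is normalized by the minimal parabolic subgroup `B ∪ B s_j B` (only `y⁻¹ u y ∈ U` is needed) -/
  Ujn : ∀ j < 2, ∀ y ∈ cell B n 0 ∪ cell B n (j + 1), ∀ u ∈ Uj j, y⁻¹ * u * y ∈ U
  /-- `U ∩ ⁿU ⊆ U_j` if the reduced word of `n` begins with `s_j` -/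
  pc : ∀ j < 2, ∀ k < 16, oLen (oMt j k) = oLen k + 1 → ∀ u ∈ U,
    (n (j + 1) * n k)⁻¹ * u * (n (j + 1) * n k) ∈ U → u ∈ Uj j
  /-- `U ∩ U^{w₀} = 1` -/
  opp : ∀ u ∈ U, (n 15)⁻¹ * u * n 15 ∈ U → u = 1

/-- the set of "chambers fixed by `a`" (representatives) -/
def fixX (U : Subgroup G) (a : G) : Set G := {g | g⁻¹ * a * g ∈ U}

end Cfsg.Agent.Lib.helper8.OCT
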